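import Groth.Agent.EtaEtLib.Basic
import Groth.Agent.PerturbFinLib.Basic
import Groth.Agent.FibDimLib.QFChain
import Groth.Agent.SmoothDimLib.Chart
import Mathlib.RingTheory.Kaehler.Polynomial
import Mathlib.RingTheory.Smooth.StandardSmoothOfFree

/-!
# Fibre dimensions of flat algebras over a DVR, affine space, and differentials relative to affine space
-/

set_option autoImplicit false
set_option linter.style.haveILetI false

universe u

open TensorProduct AlgebraicGeometry CategoryTheory MvPolynomial

noncomputable section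

namespace EtaEtLib

theorem isStandardSmooth_mvPolynomial (R : Type u) [CommRing R] [Nontrivial R] (n : ℕ) :
    Algebra.IsStandardSmoothOfRelativeDimension n R (MvPolynomial (Fin n) R) := by
  haveI : Algebra.IsStandardSmooth R (MvPolynomial (Fin n) R) :=
    Algebra.IsStandardSmooth.of_basis_kaehlerDifferential (KaehlerDifferential.mvPolynomialBasis R (Fin n)) (by
      rintro _ ⟨i, rfl⟩
      exact ⟨X i, (KaehlerDifferential.mvPolynomialBasis_apply R (Fin n) i).symm⟩)
  rw [Algebra.IsStandardSmoothOfRelativeDimension.iff_of_isStandardSmooth,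
    rank_eq_card_basis (KaehlerDifferential.mvPolynomialBasis R (Fin n)), Fintype.card_fin]

theorem smoothOfRelativeDimension_baseChange_mvPolynomial (R K : Type u) [CommRing R] [Nontrivial R] [CommRing K] [Algebra R K]
    (n : ℕ) : SmoothOfRelativeDimension n
      (Spec.map (CommRingCat.ofHom (algebraMap K (K ⊗[R] MvPolynomial (Fin n) R)))) := by
  haveI := isStandardSmooth_mvPolynomial R n
  rw [HasRingHomProperty.Spec_iff (P := @SmoothOfRelativeDimension n)]
  refine RingHom.locally_of ?_ _ ?_
  · exact RingHom.isStandardSmoothOfRelativeDimension_respectsIso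
  · exact (RingHom.isStandardSmoothOfRelativeDimension_algebraMap n).mpr inferInstance

theorem ringKrullDim_le_of_smooth (K B : Type u) [Field K] [CommRing B] [Algebra K B] (d : ℕ)
    [SmoothOfRelativeDimension d (Spec.map (CommRingCat.ofHom (algebraMap K B)))] : ringKrullDim B ≤ d := by
  let f := Spec.map (CommRingCat.ofHom (algebraMap K B))
  rw [← PrimeSpectrum.topologicalKrullDim_eq_ringKrullDim B]
  show topologicalKrullDim ↥(Spec (CommRingCat.of B)) ≤ _
  rw [FibDimLib.topologicalKrullDim_eq_iSup_localDim]
  exact iSup_le fun x => ((SmoothDimLib.fibreDimAt_eq_localDim f x).symm.trans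
    (FibDimLib.fibreDimAt_smoothOfRelativeDimension d f x)).le

/-- Algebraically independent elements bound the dimension from below. -/
theorem le_ringKrullDim_of_injective {F S : Type u} [Field F] [CommRing S] [Algebra F S] [Algebra.FiniteType F S]
    {e : ℕ} (z : Fin e → S) (h : Function.Injective (aeval z : MvPolynomial (Fin e) F →ₐ[F] S)) :
    (e : WithBot ℕ∞) ≤ ringKrullDim S := by
  let f : MvPolynomial (Fin e) F →+* S := (aeval z).toRingHom
  have hbot : (⊥ : Ideal (MvPolynomial (Fin e) F)) ∈ ((⊥ : Ideal S).comap f).minimalPrimes := by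
    rw [Ideal.comap_bot_of_injective f h]
    exact ⟨⟨Ideal.isPrime_bot, le_rfl⟩, fun _ _ _ => bot_le⟩
  obtain ⟨P, hP, hPf⟩ := Ideal.exists_comap_eq_of_mem_minimalPrimes f (I := ⊥) _ hbot
  haveI := hP
  haveI : Algebra.FiniteType F (S ⧸ P) :=
    Algebra.FiniteType.of_surjective (Ideal.Quotient.mkₐ F P) Ideal.Quotient.mk_surjective
  refine le_trans (FibDimLib.le_ringKrullDim_of_injective_aeval (k := F) (A := S ⧸ P) (fun i => Ideal.Quotient.mkₐ F P (z i)) ?_)
    (ringKrullDim_quotient_le P)
  rw [← comp_aeval, injective_iff_map_eq_zero]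
  intro q hq
  have : f q ∈ P := Ideal.Quotient.eq_zero_iff_mem.mp hq
  rw [← Ideal.mem_comap] at this
  rw [hPf.2] at this
  exact this

/-- The closed fibre of a flat algebra of finite type over a DVR has dimension at most that of the generic fibre. -/
theorem ringKrullDim_special_le (V : Type u) [CommRing V] [IsDomain V] [IsDiscreteValuationRing V]
    (R : Type u) [CommRing R] [Algebra V R] [Module.Flat V R] [Algebra.FiniteType V R] (d : ℕ)
    (hη : ringKrullDim (FractionRing V ⊗[V] R) ≤ d) :
    ringKrullDim (IsLocalRing.ResidueField V ⊗[V] R) ≤ d := by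
  classical
  let k := IsLocalRing.ResidueField V
  let K := FractionRing V
  cases subsingleton_or_nontrivial (k ⊗[V] R)
  · rw [ringKrullDim_eq_bot_of_subsingleton]; exact bot_le
  obtain ⟨s, g, hg, hgfin⟩ := exists_finite_inj_algHom_of_fg k (k ⊗[V] R)
  have hdim : ringKrullDim (k ⊗[V] R) = s := by
    letI := g.toRingHom.toAlgebra
    haveI : Module.Finite (MvPolynomial (Fin s) k) (k ⊗[V] R) := hgfin
    rw [CommAlgDim.ringKrullDim_eq_of_integral (MvPolynomial (Fin s) k) (k ⊗[V] R) hg,
      MvPolynomial.ringKrullDim_of_isNoetherianRing, ringKrullDim_eq_zero_of_field, zero_add,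
      Nat.card_eq_fintype_card, Fintype.card_fin]
  let ιk : R →ₐ[V] k ⊗[V] R := Algebra.TensorProduct.includeRight
  let ιK : R →ₐ[V] K ⊗[V] R := Algebra.TensorProduct.includeRight
  have hsur : Function.Surjective ιk := fun w => by
    induction w using TensorProduct.induction_on with
    | zero => exact ⟨0, map_zero _⟩
    | add p q hp hq =>
      obtain ⟨a, rfl⟩ := hp; obtain ⟨b, rfl⟩ := hq
      exact ⟨a + b, map_add _ _ _⟩
    | tmul c r =>
      obtain ⟨v, rfl⟩ := IsLocalRing.residue_surjective c
      refine ⟨v • r, ?_⟩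
      show (1 : k) ⊗ₜ[V] (v • r) = _
      rw [← TensorProduct.smul_tmul, ← Algebra.algebraMap_eq_smul_one, IsLocalRing.ResidueField.algebraMap_eq]
  choose z hz using fun i => hsur (g (X i))
  have hιK : Function.Injective ιK :=
    Algebra.TensorProduct.includeRight_injective (IsFractionRing.injective V K)
  obtain ⟨π, hπ⟩ := IsDiscreteValuationRing.exists_irreducible V
  have hπu : IsUnit (algebraMap V K π) :=
    IsLocalization.map_units K (⟨π, mem_nonZeroDivisors_of_ne_zero hπ.ne_zero⟩ : nonZeroDivisors V)
  have htf : ∀ r : R, π • r = 0 → r = 0 := fun r hr => by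
    refine hιK ?_
    have h := congrArg ιK hr
    rw [map_smul, map_zero, ← algebraMap_smul K π] at h
    rw [map_zero]
    exact hπu.smul_eq_zero.mp h
  have hgk : (aeval fun i => ιk (z i) : MvPolynomial (Fin s) k →ₐ[k] k ⊗[V] R) = g :=
    MvPolynomial.algHom_ext fun i => by rw [aeval_X, hz]
  have hdiv : ∀ Q : MvPolynomial (Fin s) V, aeval z Q = 0 → ∀ n, C π ^ n ∣ Q := by
    intro Q hQ n
    induction n generalizing Q with
    | zero => simp
    | succ n ih =>
      have hk : MvPolynomial.map (IsLocalRing.residue V) Q = 0 := by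
        apply hg
        rw [map_zero, ← hgk, ← IsLocalRing.ResidueField.algebraMap_eq, aeval_map_algebraMap]
        rw [← comp_aeval, AlgHom.comp_apply, hQ, map_zero]
      have hdvd : C π ∣ Q := by
        rw [C_dvd_iff_dvd_coeff]
        intro m
        rw [← Ideal.mem_span_singleton, ← hπ.maximalIdeal_eq, ← IsLocalRing.residue_eq_zero_iff,
          ← MvPolynomial.coeff_map, hk, coeff_zero]
      obtain ⟨Q', rfl⟩ := hdvd
      rw [map_mul, aeval_C, ← Algebra.smul_def] at hQ
      rw [pow_succ']
      exact mul_dvd_mul_left _ (ih Q' (htf _ hQ))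
  rw [hdim]
  refine le_trans (le_ringKrullDim_of_injective (F := K) (fun i => ιK (z i)) ?_) hη
  rw [injective_iff_map_eq_zero]
  intro P hP
  obtain ⟨v, hv⟩ := IsLocalization.exist_integer_multiples_of_finset (nonZeroDivisors V)
    (P.support.image fun m => coeff m P)
  choose c hc using fun m : P.support => hv _ (Finset.mem_image_of_mem _ m.2)
  let Q : MvPolynomial (Fin s) V := ∑ m : P.support, monomial m.1 (c m)
  have hQP : MvPolynomial.map (algebraMap V K) Q = (v : V) • P := by
    simp only [Q, map_sum, map_monomial, hc]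
    conv_rhs => rw [P.as_sum, Finset.smul_sum]
    rw [← Finset.sum_coe_sort P.support]
    exact Finset.sum_congr rfl fun m _ => by rw [smul_monomial]
  have hQz : aeval z Q = 0 := by
    refine hιK ?_
    rw [map_zero, comp_aeval_apply]
    show aeval (fun i => ιK (z i)) Q = 0
    rw [← aeval_map_algebraMap K, hQP, ← algebraMap_smul K (v : V), map_smul, hP, smul_zero]
  have hQ0 : Q = 0 := by
    ext m
    rw [coeff_zero]
    by_contra hm
    obtain ⟨n, u, hu⟩ := IsDiscreteValuationRing.eq_unit_mul_pow_irreducible hm hπ
    obtain ⟨Q', hQ'⟩ := hdiv Q hQz (n + 1)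
    have := congrArg (coeff m) hQ'
    rw [← C_pow, coeff_C_mul, hu, pow_succ, mul_assoc, mul_comm (u : V)] at this
    have h2 := mul_left_cancel₀ (pow_ne_zero n hπ.ne_zero) this
    exact hπ.not_isUnit (isUnit_of_dvd_unit (Dvd.intro _ h2.symm) u.isUnit)
  rw [hQ0, map_zero, ← algebraMap_smul K (v : V)] at hQP
  exact (IsLocalization.map_units K v).smul_eq_zero.mp hQP.symm

/-- Differentials relative to affine space: the kernel of `Ω[R/V] → Ω[R/V[T]]` is spanned by the `d xᵢ`. -/
theorem ker_map_mvPolynomial (V : Type u) [CommRing V] (R : Type u) [CommRing R] [Algebra V R] {d : ℕ}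
    [Algebra (MvPolynomial (Fin d) V) R] [IsScalarTower V (MvPolynomial (Fin d) V) R] (x : Fin d → R)
    (hx : ∀ i, algebraMap (MvPolynomial (Fin d) V) R (X i) = x i) (m : Ω[R⁄V]) :
    KaehlerDifferential.map V (MvPolynomial (Fin d) V) R R m = 0 ↔
      m ∈ Submodule.span R (Set.range fun i => KaehlerDifferential.D V R (x i)) := by
  constructor
  · intro h
    obtain ⟨w, rfl⟩ := (KaehlerDifferential.exact_mapBaseChange_map V (MvPolynomial (Fin d) V) R m).mp h
    induction w using TensorProduct.induction_on with
    | zero => rw [map_zero]; exact zero_mem _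
    | add a b ha hb =>
      rw [map_add]
      exact add_mem (ha (by rw [← KaehlerDifferential.exact_mapBaseChange_map V _ R |>.apply_apply_eq_zero a]))
        (hb (by rw [← KaehlerDifferential.exact_mapBaseChange_map V _ R |>.apply_apply_eq_zero b]))
    | tmul r ω =>
      rw [KaehlerDifferential.mapBaseChange_tmul]
      refine Submodule.smul_mem _ _ ?_
      clear h
      have hω := (KaehlerDifferential.mvPolynomialBasis V (Fin d)).mem_span ω
      induction hω using Submodule.span_induction with
      | mem y hy =>
        obtain ⟨i, rfl⟩ := hy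
        rw [KaehlerDifferential.mvPolynomialBasis_apply, KaehlerDifferential.map_D]
        exact Submodule.subset_span ⟨i, by simp [hx]⟩
      | zero => rw [map_zero]; exact zero_mem _
      | add a b _ _ ha hb => rw [map_add]; exact add_mem ha hb
      | smul c a _ ha => rw [map_smul, ← algebraMap_smul R c]; exact Submodule.smul_mem _ _ ha
  · intro h
    induction h using Submodule.span_induction with
    | mem y hy =>
      obtain ⟨i, rfl⟩ := hy
      rw [KaehlerDifferential.map_D, Algebra.algebraMap_self_apply, ← hx]
      exact Derivation.map_algebraMap _ _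
    | zero => rw [map_zero]
    | add a b _ _ ha hb => rw [map_add, ha, hb, add_zero]
    | smul c a _ ha => rw [map_smul, ha, smul_zero]

/-- The two forms of the vanishing condition agree. -/
theorem vanishing_iff (V : Type u) [CommRing V] (R : Type u) [CommRing R] [Algebra V R] {d : ℕ}
    [Algebra (MvPolynomial (Fin d) V) R] [IsScalarTower V (MvPolynomial (Fin d) V) R] (x : Fin d → R)
    (hx : ∀ i, algebraMap (MvPolynomial (Fin d) V) R (X i) = x i) (a b : R) :
    Ideal.span {a} • (⊤ : Submodule R (Ω[R⁄MvPolynomial (Fin d) V])) ≤ Ideal.span {b} • ⊤ ↔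
      Ideal.span {a} • (⊤ : Submodule R (Ω[R⁄V])) ≤
        Ideal.span {b} • ⊤ ⊔ Submodule.span R (Set.range fun i => KaehlerDifferential.D V R (x i)) := by
  let q := KaehlerDifferential.map V (MvPolynomial (Fin d) V) R R
  have hs : Function.Surjective q := KaehlerDifferential.map_surjective V (MvPolynomial (Fin d) V) R
  have htop : ∀ c : R, (Ideal.span {c} • (⊤ : Submodule R (Ω[R⁄V]))).map q = Ideal.span {c} • ⊤ := fun c => by
    rw [Submodule.map_smul'', Submodule.map_top, LinearMap.range_eq_top.mpr hs]
  rw [← htop a, ← htop b, LinearMap.map_le_map_iff]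
  refine Iff.of_eq (congrArg _ (congrArg _ (Submodule.ext fun m => ?_)))
  rw [LinearMap.mem_ker]
  exact ker_map_mvPolynomial V R x hx m

end EtaEtLib
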