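import Groth.Agent.Unram17Lib.EtaleRank
import Mathlib.AlgebraicGeometry.Morphisms.Smooth
import Mathlib.RingTheory.Smooth.StandardSmoothCotangent
import Mathlib.RingTheory.Localization.BaseChange
import Mathlib.RingTheory.DiscreteValuationRing.Basic

/-!
# Etaleness on the generic fibre of algebras over a discrete valuation ring

Rank of the differentials of a smooth algebra of given relative dimension, and the criterion: an unramified map of
smooth algebras of the same relative dimension over the generic point is étale.
-/

set_option autoImplicit false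
set_option linter.style.haveILetI false

universe u

open TensorProduct AlgebraicGeometry CategoryTheory

noncomputable section

namespace EtaEtLib

/-- The differentials of a smooth algebra of relative dimension `d` have rank `d`. -/
theorem smooth_and_rank (K B : Type u) [CommRing K] [CommRing B] [Algebra K B] (d : ℕ)
    [h : SmoothOfRelativeDimension d (Spec.map (CommRingCat.ofHom (algebraMap K B)))] :
    Algebra.Smooth K B ∧ ∀ q : PrimeSpectrum B, Module.rankAtStalk (R := B) (Ω[B⁄K]) q = d := by
  haveI : Smooth (Spec.map (CommRingCat.ofHom (algebraMap K B))) := SmoothOfRelativeDimension.smooth d _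
  haveI : Algebra.Smooth K B := RingHom.smooth_algebraMap.mp
    ((HasRingHomProperty.Spec_iff (P := @Smooth)).mp ‹_›)
  refine ⟨inferInstance, fun q => ?_⟩
  obtain ⟨s, hs, hstd⟩ := (HasRingHomProperty.Spec_iff (P := @SmoothOfRelativeDimension d)).mp h
  obtain ⟨f, hfs, hfq⟩ := Set.not_subset.mp fun hle : (s : Set B) ⊆ q.asIdeal =>
    q.2.ne_top (eq_top_iff.mpr (hs.ge.trans (Ideal.span_le.mpr hle)))
  let C := Localization.Away f
  haveI hC : Algebra.IsStandardSmoothOfRelativeDimension d K C := by
    have := hstd f hfs
    rwa [CommRingCat.hom_ofHom, ← IsScalarTower.algebraMap_eq,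
      RingHom.isStandardSmoothOfRelativeDimension_algebraMap] at this
  haveI := Algebra.IsStandardSmoothOfRelativeDimension.isStandardSmooth (R := K) (S := C) d
  have hdisj : Disjoint (Submonoid.powers f : Set B) q.asIdeal :=
    Set.disjoint_left.mpr fun z ⟨m, hm⟩ hz => hfq (q.2.mem_of_pow_mem m (show f ^ m ∈ q.asIdeal by
      rw [show f ^ m = z from hm]; exact hz))
  let P : PrimeSpectrum C := ⟨q.asIdeal.map (algebraMap B C),
    IsLocalization.isPrime_of_isPrime_disjoint (Submonoid.powers f) C _ q.2 hdisj⟩
  have hP : P.comap (algebraMap B C) = q := PrimeSpectrum.ext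
    (IsLocalization.comap_map_of_isPrime_disjoint (Submonoid.powers f) C q.2 hdisj)
  haveI : Nontrivial C := P.nontrivial
  haveI : Algebra.FormallyEtale B C := Algebra.FormallyEtale.of_isLocalization (Submonoid.powers f)
  have h1 := Module.rankAtStalk_baseChange (R := B) (M := Ω[B⁄K]) P
  rw [hP, Module.rankAtStalk_eq_of_equiv (KaehlerDifferential.tensorKaehlerEquivOfFormallyEtale K B C),
    Module.rankAtStalk_eq_finrank_of_free] at h1
  rw [← h1]
  exact Module.finrank_eq_of_rank_eq
    (Algebra.IsStandardSmoothOfRelativeDimension.rank_kaehlerDifferential (R := K) (S := C) d)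

/-- An unramified map of smooth algebras with differentials of the same rank is formally étale. -/
theorem formallyEtale_of_rank (K A B : Type u) [CommRing K] [CommRing A] [CommRing B] [Algebra K A] [Algebra A B]
    [Algebra K B] [IsScalarTower K A B] [Algebra.Smooth K A] [Algebra.Smooth K B] [Algebra.FormallyUnramified A B]
    (d : ℕ) (hA : ∀ q : PrimeSpectrum A, Module.rankAtStalk (R := A) (Ω[A⁄K]) q = d)
    (hB : ∀ q : PrimeSpectrum B, Module.rankAtStalk (R := B) (Ω[B⁄K]) q = d) : Algebra.FormallyEtale A B := by
  refine Unram17Lib.formallyEtale_of_rank K A B fun Q => ?_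
  rw [← Module.rankAtStalk_eq, ← Module.rankAtStalk_eq, hA, hB]

theorem formallyEtale_rightTensor (V K R : Type u) [CommRing V] [CommRing K] [CommRing R] [Algebra V K]
    [Algebra V R] [Algebra.FormallyEtale V K] :
    letI := Algebra.TensorProduct.rightAlgebra (R := V) (A := K) (B := R)
    Algebra.FormallyEtale R (K ⊗[V] R) := by
  letI := Algebra.TensorProduct.rightAlgebra (R := V) (A := K) (B := R)
  exact Algebra.FormallyEtale.of_equiv (Algebra.TensorProduct.commRight V R K)

theorem kaehler_away (A R : Type u) [CommRing A] [CommRing R] [Algebra A R] (x : R) (m : Ω[R⁄A]) :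
    1 ⊗ₜ[R] m = (0 : Localization.Away x ⊗[R] Ω[R⁄A]) ↔ ∃ k : ℕ, x ^ k • m = 0 := by
  haveI := (isLocalizedModule_iff_isBaseChange (Submonoid.powers x) (Localization.Away x)
    (TensorProduct.mk R (Localization.Away x) Ω[R⁄A] 1)).mpr (TensorProduct.isBaseChange R _ _)
  refine (IsLocalizedModule.eq_zero_iff (Submonoid.powers x)
    (TensorProduct.mk R (Localization.Away x) Ω[R⁄A] 1)).trans ⟨?_, fun ⟨k, hk⟩ => ⟨⟨_, k, rfl⟩, hk⟩⟩
  rintro ⟨⟨_, k, rfl⟩, hk⟩
  exact ⟨k, hk⟩

/-- The differentials of a localization vanish iff those of the ring are killed by a power. -/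
theorem formallyUnramified_away_iff (A R : Type u) [CommRing A] [CommRing R] [Algebra A R]
    [Algebra.FiniteType A R] (x : R) :
    Algebra.FormallyUnramified A (Localization.Away x) ↔ ∃ k : ℕ, ∀ m : Ω[R⁄A], x ^ k • m = 0 := by
  classical
  haveI : Algebra.FormallyEtale R (Localization.Away x) :=
    Algebra.FormallyEtale.of_isLocalization (Submonoid.powers x)
  let e := KaehlerDifferential.tensorKaehlerEquivOfFormallyEtale A R (Localization.Away x)
  rw [Algebra.formallyUnramified_iff, ← e.toEquiv.subsingleton_congr]
  constructor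
  · intro h
    obtain ⟨t, ht⟩ := (inferInstance : Module.Finite R (Ω[R⁄A]))
    choose k hk using fun m => (kaehler_away A R x m).mp (Subsingleton.elim _ _)
    refine ⟨t.sup k, fun m => ?_⟩
    have hm : m ∈ Submodule.span R (t : Set (Ω[R⁄A])) := ht ▸ trivial
    induction hm using Submodule.span_induction with
    | mem y hy =>
      obtain ⟨c, hc⟩ := Nat.exists_eq_add_of_le (Finset.le_sup (f := k) hy)
      rw [hc, add_comm, pow_add, mul_smul, hk, smul_zero]
    | zero => rw [smul_zero]
    | add a b _ _ ha hb => rw [smul_add, ha, hb, add_zero]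
    | smul r a _ ha => rw [smul_comm, ha, smul_zero]
  · rintro ⟨k, hk⟩
    refine subsingleton_of_forall_eq 0 fun z => ?_
    induction z using TensorProduct.induction_on with
    | zero => rfl
    | add a b ha hb => rw [ha, hb, add_zero]
    | tmul c m =>
      rw [← mul_one c, ← smul_eq_mul, ← TensorProduct.smul_tmul', (kaehler_away A R x m).mpr ⟨k, hk m⟩, smul_zero]

/-- **The converse of the η-étale criterion.** -/
theorem etale_away_of_formallyUnramified (V : Type u) [CommRing V] [IsDomain V] [IsDiscreteValuationRing V]
    (A R : Type u) [CommRing A] [Algebra V A] [Algebra.FiniteType V A] [CommRing R] [Algebra V R]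
    [Algebra.FiniteType V R] [Algebra A R] [IsScalarTower V A R] (x : R)
    (hx : ∀ v : V, v ≠ 0 → IsUnit (algebraMap V (Localization.Away x) v))
    [Algebra.FormallyUnramified A (Localization.Away x)] (d : ℕ)
    [SmoothOfRelativeDimension d
      (Spec.map (CommRingCat.ofHom (algebraMap (FractionRing V) (FractionRing V ⊗[V] A))))]
    [SmoothOfRelativeDimension d
      (Spec.map (CommRingCat.ofHom (algebraMap (FractionRing V) (FractionRing V ⊗[V] R))))] :
    Algebra.Etale A (Localization.Away x) := by
  let K := FractionRing V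
  let C := Localization.Away x
  haveI : Algebra.FiniteType V C :=
    Algebra.FiniteType.trans (R := V) (S := R) inferInstance (IsLocalization.finiteType_of_monoid_fg (Submonoid.powers x) C)
  haveI : Algebra.FiniteType A C := Algebra.FiniteType.of_restrictScalars_finiteType V A C
  haveI : IsNoetherianRing A := Algebra.FiniteType.isNoetherianRing V A
  haveI : Algebra.FinitePresentation A C := Algebra.FinitePresentation.of_finiteType.mp inferInstance
  let l : K →+* C := IsLocalization.lift (M := nonZeroDivisors V) (g := algebraMap V C)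
    fun v => hx v (nonZeroDivisors.ne_zero v.2)
  letI : Algebra K C := l.toAlgebra
  haveI : IsScalarTower V K C := IsScalarTower.of_algebraMap_eq fun v => (IsLocalization.lift_eq _ v).symm
  haveI : Algebra.FiniteType K C := Algebra.FiniteType.of_restrictScalars_finiteType V K C
  haveI : Algebra.FormallyEtale V K := Algebra.FormallyEtale.of_isLocalization (nonZeroDivisors V)
  letI := Algebra.TensorProduct.rightAlgebra (R := V) (A := K) (B := A)
  letI := Algebra.TensorProduct.rightAlgebra (R := V) (A := K) (B := R)
  haveI := formallyEtale_rightTensor V K A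
  haveI := formallyEtale_rightTensor V K R
  let φR : K ⊗[V] R →ₐ[K] C := Algebra.TensorProduct.lift (Algebra.ofId K C) (IsScalarTower.toAlgHom V R C)
    fun _ _ => Commute.all _ _
  let φA : K ⊗[V] A →ₐ[K] C := Algebra.TensorProduct.lift (Algebra.ofId K C) (IsScalarTower.toAlgHom V A C)
    fun _ _ => Commute.all _ _
  letI : Algebra (K ⊗[V] R) C := φR.toRingHom.toAlgebra
  haveI : IsScalarTower K (K ⊗[V] R) C := IsScalarTower.of_algebraMap_eq fun k => (φR.commutes k).symm
  haveI : IsScalarTower R (K ⊗[V] R) C := IsScalarTower.of_algebraMap_eq fun r => by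
    show _ = φR (1 ⊗ₜ r)
    simp [φR]
  haveI : Algebra.FormallyEtale R C := Algebra.FormallyEtale.of_isLocalization (Submonoid.powers x)
  haveI : Algebra.FormallyEtale (K ⊗[V] R) C := Algebra.FormallyEtale.of_restrictScalars (R := R)
  obtain ⟨_, hrR⟩ := smooth_and_rank K (K ⊗[V] R) d
  obtain ⟨_, hrA⟩ := smooth_and_rank K (K ⊗[V] A) d
  haveI : Algebra.FormallySmooth K C := Algebra.FormallySmooth.comp K (K ⊗[V] R) C
  haveI : Algebra.Smooth K C := ⟨inferInstance, Algebra.FinitePresentation.of_finiteType.mp inferInstance⟩
  have hC : ∀ q : PrimeSpectrum C, Module.rankAtStalk (R := C) (Ω[C⁄K]) q = d := fun q => by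
    rw [← Module.rankAtStalk_eq_of_equiv (KaehlerDifferential.tensorKaehlerEquivOfFormallyEtale K (K ⊗[V] R) C),
      Module.rankAtStalk_baseChange, hrR]
  letI : Algebra (K ⊗[V] A) C := φA.toRingHom.toAlgebra
  haveI : IsScalarTower K (K ⊗[V] A) C := IsScalarTower.of_algebraMap_eq fun k => (φA.commutes k).symm
  haveI : IsScalarTower A (K ⊗[V] A) C := IsScalarTower.of_algebraMap_eq fun a => by
    show _ = φA (1 ⊗ₜ a)
    simp [φA]
  haveI : Algebra.FormallyUnramified (K ⊗[V] A) C := Algebra.FormallyUnramified.of_restrictScalars A _ _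
  haveI : Algebra.FormallyEtale (K ⊗[V] A) C := formallyEtale_of_rank K (K ⊗[V] A) C d hrA hC
  haveI : Algebra.FormallyEtale A C := Algebra.FormallyEtale.comp A (K ⊗[V] A) C
  exact {}

end EtaEtLib
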